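import Cfsg.Agent.Lib.SpecFive.Inversion

/-!
A complement to the normal 2-subgroup in a group with element orders at most five over `A₅`.
-/

set_option autoImplicit false

namespace Cfsg.Agent.Lib.SpecFive.Critical

open Equiv

abbrev A5 := alternatingGroup (Fin 5)

def r0 : A5 := ⟨swap 0 1 * swap 1 2, by rw [Perm.mem_alternatingGroup]; decide⟩
def v0 : A5 := ⟨swap 0 1 * swap 2 3, by rw [Perm.mem_alternatingGroup]; decide⟩
def w0 : A5 := ⟨swap 0 1 * swap 3 4, by rw [Perm.mem_alternatingGroup]; decide⟩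

variable {G : Type*} [Group G]

/-- The three involutions conjugate under `r`, and `1`. -/
def four (r v : G) : Fin 4 → G := ![1, v, r * v * r⁻¹, r * (r * v * r⁻¹) * r⁻¹]

abbrev Idx := (Fin 4 × Fin 3) ⊕ (Fin 4 × Fin 3 × Fin 4)

def word (r v w : G) : Idx → G
  | .inl (i, j) => four r v i * r ^ (j : ℕ)
  | .inr (i, j, k) => four r v i * r ^ (j : ℕ) * w * four r v k

theorem map_four {H : Type*} [Group H] (f : G →* H) (r v : G) (i : Fin 4) :
    f (four r v i) = four (f r) (f v) i := by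
  fin_cases i <;> simp [four]

theorem map_word {H : Type*} [Group H] (f : G →* H) (r v w : G) (x : Idx) :
    f (word r v w x) = word (f r) (f v) (f w) x := by
  rcases x with ⟨i, j⟩ | ⟨i, j, k⟩ <;> simp [word, map_four]

theorem word_surjective : ∀ x : A5, ∃ i : Idx, word r0 v0 w0 i = x := by decide +kernel

theorem word_injective : Function.Injective (word r0 v0 w0) := by
  refine ((Fintype.bijective_iff_surjective_and_card _).mpr ⟨word_surjective, ?_⟩).1
  decide +kernel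

/-- Lifts of the generators of `A₅`, with their relations. -/
structure Gens (r v w : G) : Prop where
  r3 : r ^ 3 = 1
  v2 : v * v = 1
  w2 : w * w = 1
  wr : w * r * w = r * r
  vr : v * (r * v * r⁻¹) * (r * (r * v * r⁻¹) * r⁻¹) = 1
  wv : w * v * w = v * w * v

variable {r v w : G}

/-- The four group. -/
def InV (r v x : G) : Prop :=
  x = 1 ∨ x = v ∨ x = r * v * r⁻¹ ∨ x = r * (r * v * r⁻¹) * r⁻¹

def InB (r v x : G) : Prop := ∃ a, InV r v a ∧ ∃ j : ℕ, x = a * r ^ j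

def InS (r v w x : G) : Prop :=
  InB r v x ∨ ∃ y, InB r v y ∧ ∃ b, InV r v b ∧ x = y * w * b

theorem Gens.v_mul (h : Gens r v w) {a b : G} (ha : InV r v a) (hb : InV r v b) :
    InV r v (a * b) := by
  set v1 := r * v * r⁻¹ with hv1
  set v2 := r * v1 * r⁻¹ with hv2
  have s0 : v * v = 1 := h.v2
  have s1 : v1 * v1 = 1 := by
    calc v1 * v1 = r * (v * v) * r⁻¹ := by rw [hv1]; group
      _ = 1 := by rw [s0]; group
  have s2 : v2 * v2 = 1 := by
    calc v2 * v2 = r * (v1 * v1) * r⁻¹ := by rw [hv2]; group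
      _ = 1 := by rw [s1]; group
  have i0 : v⁻¹ = v := inv_eq_of_mul_eq_one_left s0
  have i1 : v1⁻¹ = v1 := inv_eq_of_mul_eq_one_left s1
  have i2 : v2⁻¹ = v2 := inv_eq_of_mul_eq_one_left s2
  have p01 : v * v1 = v2 := by rw [eq_inv_of_mul_eq_one_left h.vr, i2]
  have p10 : v1 * v = v2 := by
    rw [← i2, ← p01, mul_inv_rev, i0, i1]
  have p02 : v * v2 = v1 := by rw [← p01, ← mul_assoc, s0, one_mul]
  have p20 : v2 * v = v1 := by rw [← p10, mul_assoc, s0, mul_one]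
  have p12 : v1 * v2 = v := by rw [← p10, ← mul_assoc, s1, one_mul]
  have p21 : v2 * v1 = v := by rw [← p01, mul_assoc, s1, mul_one]
  rcases ha with rfl | rfl | rfl | rfl <;> rcases hb with rfl | rfl | rfl | rfl <;>
    simp only [InV, one_mul, mul_one, s0, s1, s2, p01, p10, p02, p20, p12, p21, ← hv1, ← hv2,
      true_or, or_true]

theorem Gens.conj_v (h : Gens r v w) {a : G} (ha : InV r v a) : InV r v (r * a * r⁻¹) := by
  rcases ha with rfl | rfl | rfl | rfl
  · left; group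
  · right; right; left; rfl
  · right; right; right; rfl
  · right; left
    have e : r * r * r = 1 := by rw [← h.r3]; simp [pow_succ, mul_assoc]
    calc r * (r * (r * v * r⁻¹) * r⁻¹) * r⁻¹ = (r * r * r) * v * (r * r * r)⁻¹ := by group
      _ = v := by rw [e]; group

theorem Gens.conj_pow_v (h : Gens r v w) {a : G} (ha : InV r v a) (n : ℕ) :
    InV r v (r ^ n * a * (r ^ n)⁻¹) := by
  induction n with
  | zero => simpa using ha
  | succ n ih =>
    rw [show r ^ (n + 1) * a * (r ^ (n + 1))⁻¹ = r * (r ^ n * a * (r ^ n)⁻¹) * r⁻¹ by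
      rw [pow_succ']; group]
    exact h.conj_v ih

theorem Gens.push (h : Gens r v w) {a : G} (ha : InV r v a) (n : ℕ) :
    ∃ b, InV r v b ∧ a * r ^ n = r ^ n * b := by
  refine ⟨r ^ (2 * n) * a * (r ^ (2 * n))⁻¹, h.conj_pow_v ha _, ?_⟩
  have e : r ^ n * r ^ (2 * n) = 1 := by
    rw [← pow_add, show n + 2 * n = 3 * n by ring, pow_mul, h.r3, one_pow]
  have e' : (r ^ (2 * n))⁻¹ = r ^ n := inv_eq_of_mul_eq_one_left e
  rw [e', ← mul_assoc, ← mul_assoc, e, one_mul]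

theorem Gens.b_mul (h : Gens r v w) {x y : G} (hx : InB r v x) (hy : InB r v y) :
    InB r v (x * y) := by
  obtain ⟨a, ha, i, rfl⟩ := hx
  obtain ⟨b, hb, j, rfl⟩ := hy
  refine ⟨a * (r ^ i * b * (r ^ i)⁻¹), h.v_mul ha (h.conj_pow_v hb i), i + j, ?_⟩
  rw [pow_add]; group

theorem InV.inB {x : G} (hx : InV r v x) : InB r v x := ⟨x, hx, 0, by simp⟩

theorem inB_pow (r v : G) (n : ℕ) : InB r v (r ^ n) := ⟨1, Or.inl rfl, n, by simp⟩

theorem Gens.w_pow (h : Gens r v w) (n : ℕ) : w * r ^ n = r ^ (2 * n) * w := by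
  have e : w⁻¹ = w := inv_eq_of_mul_eq_one_left h.w2
  have h1 : (w * r * w⁻¹) ^ n = w * r ^ n * w⁻¹ := conj_pow
  rw [e, h.wr, ← sq, ← pow_mul] at h1
  rw [h1, mul_assoc, h.w2, mul_one]

theorem Gens.pow_v (h : Gens r v w) {a : G} (ha : InV r v a) :
    a = 1 ∨ ∃ i : ℕ, a = r ^ i * v * r ^ (2 * i) := by
  have e : ∀ i : ℕ, (r ^ i)⁻¹ = r ^ (2 * i) := fun i => by
    apply inv_eq_of_mul_eq_one_left
    rw [← pow_add, show 2 * i + i = 3 * i by ring, pow_mul, h.r3, one_pow]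
  rcases ha with rfl | rfl | rfl | rfl
  · exact Or.inl rfl
  · exact Or.inr ⟨0, by simp⟩
  · exact Or.inr ⟨1, by rw [← e 1, pow_one]⟩
  · refine Or.inr ⟨2, ?_⟩
    rw [← e 2, sq]; group

theorem Gens.w_mul (h : Gens r v w) {x : G} (hx : InS r v w x) : InS r v w (w * x) := by
  rcases hx with ⟨a, ha, j, rfl⟩ | ⟨y, ⟨a, ha, j, rfl⟩, b, hb, rfl⟩
  · obtain ⟨b, hb, e⟩ := h.push ha j
    refine Or.inr ⟨r ^ (2 * j), inB_pow r v _, b, hb, ?_⟩
    rw [e, ← mul_assoc, h.w_pow]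
  rcases h.pow_v ha with rfl | ⟨i, rfl⟩
  · left
    rw [one_mul, ← mul_assoc, ← mul_assoc, h.w_pow, mul_assoc (r ^ (2 * j)) w w, h.w2, mul_one]
    exact h.b_mul (inB_pow r v _) hb.inB
  · obtain ⟨b', hb', e⟩ := h.push (Or.inr (Or.inl rfl) : InV r v v) (2 * (2 * i) + 2 * j)
    right
    refine ⟨r ^ (2 * i) * v * r ^ (2 * (2 * (2 * i) + 2 * j)),
      h.b_mul (h.b_mul (inB_pow r v _) (InV.inB (Or.inr (Or.inl rfl)))) (inB_pow r v _),
      b' * b, h.v_mul hb' hb, ?_⟩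
    calc w * (r ^ i * v * r ^ (2 * i) * r ^ j * w * b)
        = (w * r ^ i) * v * (r ^ (2 * i) * r ^ j) * w * b := by group
      _ = r ^ (2 * i) * w * v * r ^ (2 * i + j) * w * b := by rw [h.w_pow, ← pow_add]
      _ = r ^ (2 * i) * (w * v * w) * (w * r ^ (2 * i + j)) * w * b := by
          simp only [mul_assoc]
          rw [← mul_assoc w w, h.w2, one_mul]
      _ = r ^ (2 * i) * (v * w * v) * (r ^ (2 * (2 * i + j)) * w) * w * b := by rw [h.wv, h.w_pow]
      _ = r ^ (2 * i) * v * w * (v * r ^ (2 * (2 * i) + 2 * j)) * (w * w) * b := by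
          rw [show 2 * (2 * i + j) = 2 * (2 * i) + 2 * j by ring]; group
      _ = r ^ (2 * i) * v * w * (r ^ (2 * (2 * i) + 2 * j) * b') * b := by rw [e, h.w2, mul_one]
      _ = r ^ (2 * i) * v * (w * r ^ (2 * (2 * i) + 2 * j)) * b' * b := by group
      _ = r ^ (2 * i) * v * (r ^ (2 * (2 * (2 * i) + 2 * j)) * w) * b' * b := by rw [h.w_pow]
      _ = _ := by group

theorem Gens.b_left (h : Gens r v w) {y x : G} (hy : InB r v y) (hx : InS r v w x) :
    InS r v w (y * x) := by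
  rcases hx with hx | ⟨z, hz, b, hb, rfl⟩
  · exact Or.inl (h.b_mul hy hx)
  · exact Or.inr ⟨y * z, h.b_mul hy hz, b, hb, by group⟩

theorem Gens.mem_closure (h : Gens r v w) {x : G} (hx : x ∈ Subgroup.closure ({r, v, w} : Set G)) :
    InS r v w x := by
  induction hx using Subgroup.closure_induction_left with
  | one => exact Or.inl (InV.inB (Or.inl rfl))
  | mul_left a ha y _ hy =>
    rcases ha with rfl | rfl | rfl
    · exact h.b_left (by simpa using inB_pow a v 1) hy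
    · exact h.b_left (InV.inB (Or.inr (Or.inl rfl))) hy
    · exact h.w_mul hy
  | inv_mul_cancel a ha y _ hy =>
    rcases ha with rfl | rfl | rfl
    · have e : a⁻¹ = a ^ 2 := inv_eq_of_mul_eq_one_left (by rw [← pow_succ, h.r3])
      exact h.b_left (e ▸ inB_pow a v 2) hy
    · rw [inv_eq_of_mul_eq_one_left h.v2]
      exact h.b_left (InV.inB (Or.inr (Or.inl rfl))) hy
    · rw [inv_eq_of_mul_eq_one_left h.w2]
      exact h.w_mul hy

theorem Gens.exists_word (h : Gens r v w) {x : G} (hx : InS r v w x) :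
    ∃ i : Idx, word r v w i = x := by
  have hV : ∀ a, InV r v a → ∃ i : Fin 4, four r v i = a := by
    intro a ha
    rcases ha with rfl | rfl | rfl | rfl
    exacts [⟨0, rfl⟩, ⟨1, rfl⟩, ⟨2, rfl⟩, ⟨3, rfl⟩]
  have hB : ∀ y, InB r v y → ∃ (i : Fin 4) (j : Fin 3), four r v i * r ^ (j : ℕ) = y := by
    rintro _ ⟨a, ha, j, rfl⟩
    obtain ⟨i, rfl⟩ := hV a ha
    refine ⟨i, ⟨j % 3, Nat.mod_lt _ (by norm_num)⟩, ?_⟩
    rw [pow_eq_pow_mod j h.r3]
  rcases hx with hx | ⟨y, hy, b, hb, rfl⟩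
  · obtain ⟨i, j, e⟩ := hB x hx
    exact ⟨.inl (i, j), e⟩
  · obtain ⟨i, j, rfl⟩ := hB y hy
    obtain ⟨k, rfl⟩ := hV b hb
    exact ⟨.inr (i, j, k), rfl⟩

/-- Existence of lifts generating a complement. -/
theorem exists_gens [Finite G] (h : P5 G) {E : Subgroup G} [E.Normal] (hE : IsPGroup 2 E)
    (π : G →* A5) (hπ : Function.Surjective π) (hker : π.ker = E) :
    ∃ r v w : G, π r = r0 ∧ π v = v0 ∧ π w = w0 ∧ Gens r v w := by
  have hlift : ∀ (x : G) (p : ℕ), (p = 3 ∨ p = 5) → orderOf (π x) = p → orderOf x = p :=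
    fun x p hp e => orderOf_eq_of_odd h hp (e ▸ orderOf_map_dvd π x)
  have h3 : ∀ x : G, (π x) ^ 3 = 1 → π x ≠ 1 → x ^ 3 = 1 := by
    intro x e1 e2
    have : Fact (Nat.Prime 3) := ⟨Nat.prime_three⟩
    rw [← hlift x 3 (Or.inl rfl) (orderOf_eq_prime e1 e2), pow_orderOf_eq_one]
  have hmem : ∀ x : G, π x = 1 → x ∈ E := fun x e => by rw [← hker]; exact MonoidHom.mem_ker.mpr e
  have heq : ∀ u t : G, u * t⁻¹ ∈ E → π u = π t := by
    intro u t e
    rw [← hker, MonoidHom.mem_ker, map_mul, map_inv, mul_inv_eq_one] at e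
    exact e
  have hinv : ∀ (a t : G) (t' : A5), π t = t' → t' * t' = 1 → (π a) ^ 3 = 1 → π a ≠ 1 →
      t' * π a * t'⁻¹ = (π a)⁻¹ → ∃ u, u * u = 1 ∧ cj u a = a⁻¹ ∧ π u = t' := by
    intro a t t' ht ht2 ha1 ha2 hta
    have : Fact (Nat.Prime 3) := ⟨Nat.prime_three⟩
    obtain ⟨u, h1, h2, h3'⟩ := exists_involution_inverting h hE (a := a) (t := t)
      (Or.inl (hlift a 3 (Or.inl rfl) (orderOf_eq_prime ha1 ha2)))
      (hmem _ (by rw [map_mul, ht, ht2]))
      (hmem _ (by simp only [cj, map_mul, map_inv, ht, hta, mul_inv_cancel]))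
    exact ⟨u, h1, h2, (heq u t h3').trans ht⟩
  obtain ⟨r, hr⟩ := hπ r0
  obtain ⟨tw, htw⟩ := hπ w0
  obtain ⟨tv, htv⟩ := hπ v0
  obtain ⟨b, hb⟩ := hπ (w0 * v0)
  obtain ⟨w, hw1, hw2, hw3⟩ := hinv r tw w0 htw (by decide +kernel) (by rw [hr]; decide +kernel)
    (by rw [hr]; decide +kernel) (by rw [hr]; decide +kernel)
  obtain ⟨v, hv1, -, hv3⟩ := hinv b tv v0 htv (by decide +kernel) (by rw [hb]; decide +kernel)
    (by rw [hb]; decide +kernel) (by rw [hb]; decide +kernel)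
  have hwi : w⁻¹ = w := inv_eq_of_mul_eq_one_left hw1
  have hvi : v⁻¹ = v := inv_eq_of_mul_eq_one_left hv1
  have hr3 : r ^ 3 = 1 := h3 r (by rw [hr]; decide +kernel) (by rw [hr]; decide +kernel)
  refine ⟨r, v, w, hr, hv3, hw3, ⟨hr3, hv1, hw1, ?_, ?_, ?_⟩⟩
  · rw [cj, hwi] at hw2
    rw [hw2]
    exact inv_eq_of_mul_eq_one_left (by rw [← hr3]; simp [pow_succ, mul_assoc])
  · have e := h3 (v * r) (by rw [map_mul, hv3, hr]; decide +kernel)
      (by rw [map_mul, hv3, hr]; decide +kernel)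
    have e3 : r * r * r = 1 := by rw [← hr3]; simp [pow_succ, mul_assoc]
    calc v * (r * v * r⁻¹) * (r * (r * v * r⁻¹) * r⁻¹)
        = (v * r) ^ 3 * (r * r * r)⁻¹ := by simp [pow_succ, mul_assoc]
      _ = 1 := by rw [e, e3]; group
  · have e := h3 (w * v) (by rw [map_mul, hw3, hv3]; decide +kernel)
      (by rw [map_mul, hw3, hv3]; decide +kernel)
    have e' : (w * v * w) * (v * w * v) = 1 := by rw [← e]; simp [pow_succ, mul_assoc]
    rw [eq_inv_of_mul_eq_one_left e', mul_inv_rev, mul_inv_rev, hvi, hwi, mul_assoc]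

end Cfsg.Agent.Lib.SpecFive.Critical
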