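import Cfsg.Agent.Lib.SpecFive.Critical.Lifts
import Cfsg.Agent.Lib.CosetTable.HeSp44.Field

/-!
The critical extension of an elementary abelian 2-group by `A₅` is the affine group over `F₄`.
-/

set_option autoImplicit false

namespace Cfsg.Agent.Lib.SpecFive.Critical

open Cfsg.Agent.Lib.CosetTable.HeSp44 (K4)
open Matrix

variable {G : Type*} [Group G]

/-- The orbit of `a` under `r`, indexed by the field. -/
def phi (r a : G) : K4 → G
  | .o => 1
  | .e => a
  | .w => cj r a
  | .v => cj r (cj r a)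

/-- The coordinates. -/
def coord (r w a : G) (c : Fin 2 → K4) : G := phi r a (c 0) * cj w (phi r a (c 1))

/-- The affine matrix. -/
def mat (m : Matrix (Fin 2) (Fin 2) K4) (c : Fin 2 → K4) : Matrix (Fin 3) (Fin 3) K4 :=
  !![m 0 0, m 0 1, c 0; m 1 0, m 1 1, c 1; 0, 0, 1]

theorem det_mat (m : Matrix (Fin 2) (Fin 2) K4) (c : Fin 2 → K4) : (mat m c).det = m.det := by
  rw [Matrix.det_fin_three, Matrix.det_fin_two]
  simp [mat]

theorem mat_mul (m n : Matrix (Fin 2) (Fin 2) K4) (c d : Fin 2 → K4) :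
    mat m c * mat n d = mat (m * n) (c + m *ᵥ d) := by
  ext i j
  fin_cases i <;> fin_cases j <;>
    simp [mat, Matrix.mul_apply, Fin.sum_univ_three, Fin.sum_univ_two, Matrix.mulVec, dotProduct] <;>
    ring

theorem mat_one : mat 1 0 = 1 := by
  ext i j
  fin_cases i <;> fin_cases j <;> simp [mat]

theorem mat_injective {m n : Matrix (Fin 2) (Fin 2) K4} {c d : Fin 2 → K4}
    (h : mat m c = mat n d) : m = n ∧ c = d := by
  have e : ∀ i j, mat m c i j = mat n d i j := fun i j => by rw [h]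
  refine ⟨?_, ?_⟩
  · ext i j
    fin_cases i <;> fin_cases j
    · simpa [mat] using e 0 0
    · simpa [mat] using e 0 1
    · simpa [mat] using e 1 0
    · simpa [mat] using e 1 1
  · ext i
    fin_cases i
    · simpa [mat] using e 0 2
    · simpa [mat] using e 1 2

theorem card_sl2 :
    Fintype.card {q : K4 × K4 × K4 × K4 // q.1 * q.2.2.2 - q.2.1 * q.2.2.1 = 1} = 60 := by
  decide +kernel

/-- The affine group has at most `960` elements. -/
theorem card_affine_le (S : Subgroup (SpecialLinearGroup (Fin 3) K4))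
    (hS : ∀ M ∈ S, (M : Matrix (Fin 3) (Fin 3) K4) 2 0 = 0 ∧
      (M : Matrix (Fin 3) (Fin 3) K4) 2 1 = 0 ∧ (M : Matrix (Fin 3) (Fin 3) K4) 2 2 = 1) :
    Nat.card S ≤ 960 := by
  let f : S → {q : K4 × K4 × K4 × K4 // q.1 * q.2.2.2 - q.2.1 * q.2.2.1 = 1} × (K4 × K4) :=
    fun M => (⟨((M.1 : Matrix (Fin 3) (Fin 3) K4) 0 0, (M.1 : Matrix (Fin 3) (Fin 3) K4) 0 1,
        (M.1 : Matrix (Fin 3) (Fin 3) K4) 1 0, (M.1 : Matrix (Fin 3) (Fin 3) K4) 1 1), by
          have h := M.1.2
          obtain ⟨a, b, c⟩ := hS M.1 M.2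
          rw [Matrix.det_fin_three, a, b, c] at h
          linear_combination h⟩,
      ((M.1 : Matrix (Fin 3) (Fin 3) K4) 0 2, (M.1 : Matrix (Fin 3) (Fin 3) K4) 1 2))
  refine (Nat.card_le_card_of_injective f ?_).trans ?_
  · intro M N h
    simp only [f, Prod.mk.injEq, Subtype.mk.injEq] at h
    obtain ⟨⟨h00, h01, h10, h11⟩, h02, h12⟩ := h
    obtain ⟨a, b, c⟩ := hS M.1 M.2
    obtain ⟨a', b', c'⟩ := hS N.1 N.2
    refine Subtype.ext (Subtype.ext (Matrix.ext fun i j => ?_))
    fin_cases i <;> fin_cases j <;> first | assumption | simp [*]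
  · rw [Nat.card_prod, Nat.card_prod, Nat.card_eq_fintype_card, Nat.card_eq_fintype_card, card_sl2]
    decide +kernel

theorem eq_of_mulVec {m n : Matrix (Fin 2) (Fin 2) K4} (h : ∀ c, m *ᵥ c = n *ᵥ c) : m = n := by
  ext i j
  have := congrFun (h (Pi.single j 1)) i
  simpa using this

variable [Finite G]

/-- The main identification. -/
theorem nonempty_equiv (h : P5 G) {E : Subgroup G} [E.Normal] (hE : IsPGroup 2 E) (hne : E ≠ ⊥)
    (hexp : ∀ x ∈ E, x * x = 1) (π : G →* A5) (hπ : Function.Surjective π) (hker : π.ker = E)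
    (hcrit : ∀ H : Subgroup G, H ≠ ⊤ → Set.range (orderOf : H → ℕ) ≠ ({1, 2, 3, 4, 5} : Set ℕ))
    (S : Subgroup (SpecialLinearGroup (Fin 3) K4))
    (hS : ∀ M : SpecialLinearGroup (Fin 3) K4, M ∈ S ↔ (M : Matrix (Fin 3) (Fin 3) K4) 2 0 = 0 ∧
      (M : Matrix (Fin 3) (Fin 3) K4) 2 1 = 0 ∧ (M : Matrix (Fin 3) (Fin 3) K4) 2 2 = 1) :
    Nonempty (G ≃* S) := by
  classical
  obtain ⟨r, v, w, hr, hv, hw, hg⟩ := exists_gens h hE π hπ hker
  have hcm : ∀ x ∈ E, ∀ y ∈ E, x * y = y * x := fun x hx y hy =>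
    mul_sq_of_comm (hexp x hx) (hexp y hy) (hexp _ (E.mul_mem hx hy))
  have hinvE : ∀ x ∈ E, x⁻¹ = x := fun x hx => inv_eq_of_mul_eq_one_left (hexp x hx)
  have hEπ : ∀ {x : G}, x ∈ E ↔ π x = 1 := fun {x} => by rw [← hker, MonoidHom.mem_ker]
  have cjE : ∀ {x : G}, x ∈ E → ∀ g, cj g x ∈ E := fun hx g => cj_mem hx g
  -- fixed-point-free elements
  have hfpf : ∀ (g x : G), ((π g) ^ 3 = 1) → π g ≠ 1 → x ∈ E → Commute g x → x = 1 := by
    intro g x e1 e2 hx hc
    have : Fact (Nat.Prime 3) := ⟨Nat.prime_three⟩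
    have h3 : 3 ∣ orderOf g := orderOf_eq_prime e1 e2 ▸ orderOf_map_dvd π g
    exact eq_one_of_commute_two h hE (Or.inl (orderOf_eq_of_odd h (Or.inl rfl) h3)) hx hc
  have hrfpf : ∀ x ∈ E, cj r x = x → x = 1 := fun x hx e =>
    hfpf r x (by rw [hr]; decide +kernel) (by rw [hr]; decide +kernel) hx (cj_eq_self.mp e)
  have hvw : ∀ x ∈ E, cj v x = x → cj v (cj w x) = cj w x → x = 1 := by
    intro x hx e1 e2
    refine hfpf (v * (w * v * w)) x (by simp only [map_mul, hv, hw]; decide +kernel)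
      (by simp only [map_mul, hv, hw]; decide +kernel) hx (cj_eq_self.mp ?_)
    rw [← cj_cj, ← cj_cj, ← cj_cj, e2, cj_cj w w, hg.w2, cj_one, e1]
  -- a common fixed point of the four group
  have hfix : ∀ (u : G), u * u = 1 → ∀ x ∈ E, x ≠ 1 → ∀ g : G, Commute g u → cj g x = x →
      ∃ y ∈ E, y ≠ 1 ∧ cj u y = y ∧ cj g y = y := by
    intro u hu x hx hx1 g hgu hgx
    by_cases hux : cj u x = x
    · exact ⟨x, hx, hx1, hux, hgx⟩
    refine ⟨x * cj u x, E.mul_mem hx (cjE hx u), ?_, ?_, ?_⟩
    · intro e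
      exact hux ((eq_inv_of_mul_eq_one_right e).trans (hinvE x hx))
    · rw [cj_mul, cj_cj, hu, cj_one, hcm _ (cjE hx u) _ hx]
    · rw [cj_mul, hgx, cj_cj, hgu.eq, ← cj_cj, hgx]
  set v' := r * v * r⁻¹ with hv'
  set v'' := r * v' * r⁻¹ with hv''
  have hv'2 : v' * v' = 1 := by
    calc v' * v' = r * (v * v) * r⁻¹ := by rw [hv']; group
      _ = 1 := by rw [hg.v2]; group
  have hv''e : v * v' = v'' := by
    rw [eq_inv_of_mul_eq_one_left hg.vr]
    refine inv_eq_of_mul_eq_one_left ?_
    calc v'' * v'' = r * (v' * v') * r⁻¹ := by rw [hv'']; group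
      _ = 1 := by rw [hv'2]; group
  have hcomm : Commute v v' := by
    have hv''2 : v * v' * (v * v') = 1 := by
      rw [hv''e]
      calc v'' * v'' = r * (v' * v') * r⁻¹ := by rw [hv'']; group
        _ = 1 := by rw [hv'2]; group
    exact mul_sq_of_comm hg.v2 hv'2 hv''2
  obtain ⟨x0, hx0, hx01⟩ := exists_mem_ne_one hne
  obtain ⟨x1, hx1, hx11, hvx1, -⟩ := hfix v hg.v2 x0 hx0 hx01 1 (Commute.one_left v) (cj_one x0)
  obtain ⟨a, ha, ha1, hv'a, hva⟩ := hfix v' hv'2 x1 hx1 hx11 v hcomm hvx1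
  -- the fixed space is stable under `r`
  have hW : ∀ x, cj v x = x → cj v' x = x → cj v (cj r x) = cj r x ∧ cj v' (cj r x) = cj r x := by
    intro x e1 e2
    constructor
    · have e : v * r = r * v'' := by
        have e3 : r * r * r = 1 := by rw [← hg.r3]; simp [pow_succ, mul_assoc]
        calc v * r = (r * r * r) * v * (r * r * r)⁻¹ * r := by rw [e3]; group
          _ = r * v'' := by rw [hv'', hv']; group
      rw [cj_cj, e, ← hv''e, ← cj_cj, ← cj_cj, e2, e1]
    · have e : v' * r = r * v := by rw [hv']; group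
      rw [cj_cj, e, ← cj_cj, e1]
  set φ := phi r a with hφ
  have hφmem : ∀ x, φ x ∈ E := by
    intro x
    cases x
    exacts [E.one_mem, ha, cjE ha r, cjE (cjE ha r) r]
  have hφfix : ∀ x, cj v (φ x) = φ x := by
    intro x
    cases x
    exacts [cj_self_one v, hva, (hW a hva hv'a).1,
      (hW _ (hW a hva hv'a).1 (hW a hva hv'a).2).1]
  have hr3 : ∀ x : G, cj r (cj r (cj r x)) = x := fun x => by
    rw [cj_cj, cj_cj, show r * r * r = r ^ 3 by simp [pow_succ, mul_assoc], hg.r3, cj_one]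
  have hsum : a * cj r a = cj r (cj r a) := by
    have m1 := cjE ha r
    have m2 := cjE m1 r
    have e : a * cj r a * cj r (cj r a) = 1 := by
      refine hrfpf _ (E.mul_mem (E.mul_mem ha m1) m2) ?_
      rw [cj_mul, cj_mul, hr3, hcm _ (E.mul_mem m1 m2) _ ha, mul_assoc]
    rw [eq_inv_of_mul_eq_one_left e, hinvE _ m2]
  have hφadd : ∀ x y, φ (x + y) = φ x * φ y := by
    have m1 := cjE ha r
    have m2 := cjE m1 r
    have s0 := hexp a ha
    have s1 := hexp _ m1
    have s2 := hexp _ m2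
    have p10 : cj r a * a = cj r (cj r a) := by rw [hcm _ m1 _ ha, hsum]
    have p02 : a * cj r (cj r a) = cj r a := by rw [← hsum, ← mul_assoc, s0, one_mul]
    have p20 : cj r (cj r a) * a = cj r a := by rw [hcm _ m2 _ ha, p02]
    have p12 : cj r a * cj r (cj r a) = a := by rw [← p10, ← mul_assoc, s1, one_mul]
    have p21 : cj r (cj r a) * cj r a = a := by rw [hcm _ m2 _ m1, p12]
    intro x y
    cases x <;> cases y
    · exact (one_mul (1 : G)).symm
    · exact (one_mul _).symm
    · exact (one_mul _).symm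
    · exact (one_mul _).symm
    · exact (mul_one _).symm
    · exact s0.symm
    · exact hsum.symm
    · exact p02.symm
    · exact (mul_one _).symm
    · exact p10.symm
    · exact s1.symm
    · exact p12.symm
    · exact (mul_one _).symm
    · exact p20.symm
    · exact p21.symm
    · exact s2.symm
  have hφmul : ∀ x, φ (.w * x) = cj r (φ x) := by
    intro x
    cases x
    exacts [(cj_self_one r).symm, rfl, rfl, (hr3 a).symm]
  have hφinj : ∀ x, φ x = 1 → x = 0 := by
    have hne1 : ∀ g x : G, cj g x = 1 → x = 1 := fun g x e => conj_eq_one_iff.mp e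
    intro x e
    cases x
    exacts [rfl, absurd e ha1, absurd (hne1 r a e) ha1, absurd (hne1 r a (hne1 r _ e)) ha1]
  have hvw' : ∀ x, cj v (cj w (φ x)) = φ x * cj w (φ x) := by
    intro x
    set b := φ x with hb
    have mb := hφmem x
    have mwb := cjE mb w
    set c := cj v (cj w b) * cj w b with hc
    have mc : c ∈ E := E.mul_mem (cjE mwb v) mwb
    have hcv : cj v c = c := by
      rw [hc, cj_mul, cj_cj v v, hg.v2, cj_one, hcm _ mwb _ (cjE mwb v)]
    have e1 : cj v (cj w b) = c * cj w b := by rw [hc, mul_assoc, hexp _ mwb, mul_one]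
    have e2 : cj v (cj w b) = cj w c * b := by
      calc cj v (cj w b) = cj v (cj w (cj v b)) := by rw [hφfix x]
        _ = cj (w * v * w) b := by rw [cj_cj, cj_cj, hg.wv, mul_assoc]
        _ = cj w (c * cj w b) := by rw [← e1, cj_cj, cj_cj, mul_assoc]
        _ = cj w c * b := by rw [cj_mul, cj_cj w w, hg.w2, cj_one]
    have e3 : c * b = cj w (c * b) := by
      rw [cj_mul]
      calc c * b = (c * cj w b) * (cj w b * b) := by
            rw [mul_assoc c, ← mul_assoc (cj w b), hexp _ mwb, one_mul]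
        _ = (cj w c * b) * (b * cj w b) := by rw [← e1, e2, hcm _ mwb _ mb]
        _ = cj w c * cj w b := by rw [mul_assoc (cj w c), ← mul_assoc b, hexp _ mb, one_mul]
    have e4 : c * b = 1 := by
      refine hvw _ (E.mul_mem mc mb) ?_ ?_
      · rw [cj_mul, hcv, hφfix x]
      · rw [← e3, cj_mul, hcv, hφfix x]
    rw [e1, eq_inv_of_mul_eq_one_left e4, hinvE b mb]
  set L := coord r w a with hLdef
  have hLmem : ∀ c, L c ∈ E := fun c => E.mul_mem (hφmem _) (cjE (hφmem _) w)
  have hLadd : ∀ c d, L (c + d) = L c * L d := by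
    intro c d
    simp only [hLdef, coord, Pi.add_apply, ← hφ, hφadd, cj_mul]
    rw [mul_assoc (φ (c 0)), ← mul_assoc (φ (d 0)), hcm _ (hφmem (d 0)) _ (cjE (hφmem (c 1)) w)]
    simp only [mul_assoc]
  have hL0 : L 0 = 1 := by
    show φ 0 * cj w (φ 0) = 1
    rw [show φ 0 = 1 from rfl, cj_self_one, one_mul]
  have hLinj : Function.Injective L := by
    have key : ∀ c, L c = 1 → c = 0 := by
      intro c e
      have e' : φ (c 0) = cj w (φ (c 1)) :=
        (eq_inv_of_mul_eq_one_left e).trans (hinvE _ (cjE (hφmem _) w))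
      have h0 : φ (c 0) = 1 := by
        refine hvw _ (hφmem _) (hφfix _) ?_
        rw [e', cj_cj w w, hg.w2, cj_one, hφfix]
      have h1 : φ (c 1) = 1 := by
        rw [h0] at e'
        exact conj_eq_one_iff.mp e'.symm
      ext i
      fin_cases i
      · exact hφinj _ h0
      · exact hφinj _ h1
    intro c d e
    have hcd := key (c + d) (by rw [hLadd, e, hexp _ (hLmem d)])
    have hneg : ∀ x y : K4, x + y = 0 → x = y := by decide +kernel
    ext i
    exact hneg _ _ (congrFun hcd i)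
  -- the linear action
  let Rel : G → Matrix (Fin 2) (Fin 2) K4 → Prop := fun g m => ∀ c, cj g (L c) = L (m *ᵥ c)
  have hmulRel : ∀ {g g' m m'}, Rel g m → Rel g' m' → Rel (g * g') (m * m') := by
    intro g g' m m' h1 h2 c
    rw [← cj_cj, h2, h1, Matrix.mulVec_mulVec]
  have honeRel : Rel 1 1 := fun c => by rw [cj_one, Matrix.one_mulVec]
  set K := Subgroup.closure ({r, v, w} : Set G) with hKdef
  have hgen : ∀ g ∈ ({r, v, w} : Set G), ∃ m, m.det = 1 ∧ Rel g m := by
    have hv2 : ∀ c : Fin 2 → K4, !![1, 1; 0, 1] *ᵥ c = ![c 0 + c 1, c 1] := fun c => by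
      ext i; fin_cases i <;> simp [Matrix.mulVec, dotProduct, Fin.sum_univ_two]
    have hw2 : ∀ c : Fin 2 → K4, !![0, 1; 1, 0] *ᵥ c = ![c 1, c 0] := fun c => by
      ext i; fin_cases i <;> simp [Matrix.mulVec, dotProduct, Fin.sum_univ_two]
    have hr2 : ∀ c : Fin 2 → K4, !![K4.w, 0; 0, K4.w * K4.w] *ᵥ c =
        ![K4.w * c 0, K4.w * K4.w * c 1] := fun c => by
      ext i; fin_cases i <;> simp [Matrix.mulVec, dotProduct, Fin.sum_univ_two]
    have hww : w⁻¹ = w := inv_eq_of_mul_eq_one_left hg.w2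
    rintro g (rfl | rfl | rfl)
    · refine ⟨!![K4.w, 0; 0, K4.w * K4.w], by rw [Matrix.det_fin_two]; decide +kernel, fun c => ?_⟩
      have e : g * w = w * (g * g) := by
        rw [← hg.wr, ← mul_assoc, ← mul_assoc, hg.w2, one_mul]
      simp only [hr2, hLdef, coord, ← hφ, Matrix.cons_val_zero, Matrix.cons_val_one, cj_mul]
      rw [cj_cj g w, e, mul_assoc K4.w K4.w, hφmul, hφmul, hφmul]
      simp only [cj_cj, mul_assoc]
    · refine ⟨!![1, 1; 0, 1], by rw [Matrix.det_fin_two]; decide +kernel, fun c => ?_⟩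
      simp only [hv2, hLdef, coord, ← hφ, Matrix.cons_val_zero, Matrix.cons_val_one, cj_mul,
        hφfix, hvw', hφadd, mul_assoc]
    · refine ⟨!![0, 1; 1, 0], by rw [Matrix.det_fin_two]; decide +kernel, fun c => ?_⟩
      simp only [hw2, hLdef, coord, ← hφ, Matrix.cons_val_zero, Matrix.cons_val_one, cj_mul]
      rw [cj_cj g g, hg.w2, cj_one]
      exact hcm _ (cjE (hφmem _) g) _ (hφmem _)
  have hKgood : ∀ k ∈ K, ∃ m, m.det = 1 ∧ Rel k m := by
    intro k hk
    induction hk using Subgroup.closure_induction with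
    | mem x hx => exact hgen x hx
    | one => exact ⟨1, Matrix.det_one, honeRel⟩
    | mul x y _ _ hx hy =>
      obtain ⟨m, hm, hxm⟩ := hx
      obtain ⟨n, hn, hyn⟩ := hy
      exact ⟨m * n, by rw [Matrix.det_mul, hm, hn, one_mul], hmulRel hxm hyn⟩
    | inv x _ hx =>
      obtain ⟨m, hm, hxm⟩ := hx
      have hpow : ∀ n : ℕ, Rel (x ^ n) (m ^ n) := by
        intro n
        induction n with
        | zero => simpa using honeRel
        | succ n ih => rw [pow_succ, pow_succ]; exact hmulRel ih hxm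
      refine ⟨m ^ (orderOf x - 1), by rw [Matrix.det_pow, hm, one_pow], ?_⟩
      have e : x⁻¹ = x ^ (orderOf x - 1) := by
        apply inv_eq_of_mul_eq_one_left
        rw [← pow_succ, Nat.sub_add_cancel (orderOf_pos x), pow_orderOf_eq_one]
      rw [e]
      exact hpow _
  have hKword : ∀ k ∈ K, ∃ i : Idx, word r v w i = k := fun k hk =>
    hg.exists_word (hg.mem_closure hk)
  have hwordK : ∀ i : Idx, word r v w i ∈ K := by
    have hrK : r ∈ K := Subgroup.subset_closure (by simp)
    have hvK : v ∈ K := Subgroup.subset_closure (by simp)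
    have hwK : w ∈ K := Subgroup.subset_closure (by simp)
    have h4 : ∀ i, four r v i ∈ K := by
      intro i
      fin_cases i
      exacts [K.one_mem, hvK, K.mul_mem (K.mul_mem hrK hvK) (K.inv_mem hrK),
        K.mul_mem (K.mul_mem hrK (K.mul_mem (K.mul_mem hrK hvK) (K.inv_mem hrK))) (K.inv_mem hrK)]
    rintro (⟨i, j⟩ | ⟨i, j, k⟩)
    · exact K.mul_mem (h4 i) (K.pow_mem hrK _)
    · exact K.mul_mem (K.mul_mem (K.mul_mem (h4 i) (K.pow_mem hrK _)) hwK) (h4 k)
  have hπword : ∀ i, π (word r v w i) = word r0 v0 w0 i := fun i => by rw [map_word, hr, hv, hw]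
  have hKinj : ∀ k ∈ K, ∀ k' ∈ K, π k = π k' → k = k' := by
    intro k hk k' hk' e
    obtain ⟨i, rfl⟩ := hKword k hk
    obtain ⟨j, rfl⟩ := hKword k' hk'
    rw [hπword, hπword] at e
    rw [word_injective e]
  have hsplit : ∀ g : G, ∃ e ∈ E, ∃ k ∈ K, g = e * k := by
    intro g
    obtain ⟨i, hi⟩ := word_surjective (π g)
    refine ⟨g * (word r v w i)⁻¹, hEπ.mpr ?_, _, hwordK i, by group⟩
    rw [map_mul, map_inv, hπword, hi, mul_inv_cancel]
  -- the image of the coordinates is all of `E`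
  let M : Subgroup G :=
    { carrier := Set.range L
      one_mem' := ⟨0, hL0⟩
      mul_mem' := by
        rintro _ _ ⟨c, rfl⟩ ⟨d, rfl⟩
        exact ⟨c + d, hLadd c d⟩
      inv_mem' := by
        rintro _ ⟨c, rfl⟩
        exact ⟨c, (hinvE _ (hLmem c)).symm⟩ }
  have hME : M ≤ E := by rintro _ ⟨c, rfl⟩; exact hLmem c
  have hMK : K ≤ Subgroup.normalizer (M : Set G) := by
    intro k hk
    rw [Subgroup.mem_normalizer_iff]
    have key : ∀ k ∈ K, ∀ x ∈ M, k * x * k⁻¹ ∈ M := by
      rintro k hk _ ⟨c, rfl⟩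
      obtain ⟨m, -, hm⟩ := hKgood k hk
      exact ⟨m *ᵥ c, (hm c).symm⟩
    exact fun x => ⟨key k hk x, fun hx => by
      simpa [mul_assoc] using key k⁻¹ (K.inv_mem hk) _ hx⟩
  have hEM : E ≤ M := by
    by_contra hle
    refine hcrit (M ⊔ K) (fun e => ?_) ?_
    · obtain ⟨x, hx, hxM⟩ := SetLike.not_le_iff_exists.mp hle
      have hx' : x ∈ M ⊔ K := e ▸ Subgroup.mem_top x
      rw [← SetLike.mem_coe, Subgroup.coe_mul_of_right_le_normalizer_left M K hMK] at hx'
      obtain ⟨y, hy, k, hk, rfl⟩ := Set.mem_mul.mp hx'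
      have hk1 : k = 1 := hKinj k hk 1 K.one_mem (by
        have := hEπ.mp hx
        rwa [map_mul, hEπ.mp (hME hy), one_mul, ← map_one π] at this)
      exact hxM (by rw [hk1, mul_one]; exact hy)
    · ext n
      constructor
      · rintro ⟨x, rfl⟩
        have := order_cases (h.subgroup _) x
        simp only [Set.mem_insert_iff, Set.mem_singleton_iff]
        omega
      · intro hn
        have hin : ∀ g ∈ M ⊔ K, orderOf g ∈ Set.range (orderOf : ↥(M ⊔ K) → ℕ) :=
          fun g hg' => ⟨⟨g, hg'⟩, Subgroup.orderOf_mk g hg'⟩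
        have hKH : ∀ g ∈ K, g ∈ M ⊔ K := fun g hg' => Subgroup.mem_sup_right hg'
        simp only [Set.mem_insert_iff, Set.mem_singleton_iff] at hn
        rcases hn with rfl | rfl | rfl | rfl | rfl
        · exact ⟨1, orderOf_one⟩
        · have hv1 : v ≠ 1 := fun e => absurd (hv.symm.trans (e ▸ map_one π)) (by decide +kernel)
          have := hin v (hKH _ (Subgroup.subset_closure (by simp)))
          rwa [orderOf_eq_prime (p := 2) (by rw [sq]; exact hg.v2) hv1] at this
        · have hr1 : r ≠ 1 := fun e => absurd (hr.symm.trans (e ▸ map_one π)) (by decide +kernel)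
          have : Fact (Nat.Prime 3) := ⟨Nat.prime_three⟩
          have := hin r (hKH _ (Subgroup.subset_closure (by simp)))
          rwa [orderOf_eq_prime hg.r3 hr1] at this
        · have hx : v * cj w a ∈ M ⊔ K := Subgroup.mul_mem _
            (hKH _ (Subgroup.subset_closure (by simp))) (Subgroup.mem_sup_left
              ⟨![0, 1], by show φ 0 * cj w (φ 1) = _; exact one_mul _⟩)
          have hsq : v * cj w a * (v * cj w a) = a := by
            calc v * cj w a * (v * cj w a) = cj v (cj w a) * (v * v) * cj w a := by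
                  simp only [cj]; group
              _ = a := by
                  rw [hg.v2, mul_one, show cj v (cj w a) = a * cj w a from hvw' .e, mul_assoc,
                    hexp _ (cjE ha w), mul_one]
          have hπx : π (v * cj w a) = v0 := by
            rw [map_mul, hEπ.mp (cjE ha w), mul_one, hv]
          have h2 : 2 ∣ orderOf (v * cj w a) := by
            have : Fact (Nat.Prime 2) := ⟨Nat.prime_two⟩
            rw [← show orderOf (π (v * cj w a)) = 2 from orderOf_eq_prime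
              (by rw [hπx]; decide +kernel) (by rw [hπx]; decide +kernel)]
            exact orderOf_map_dvd _ _
          have h4 : orderOf (v * cj w a) = 4 := by
            rcases order_cases h (v * cj w a) with e | e | e | e | e <;> try omega
            exfalso
            apply ha1
            rw [← hsq, ← sq, ← e, pow_orderOf_eq_one]
          exact h4 ▸ hin _ hx
        · obtain ⟨i, hi⟩ := word_surjective (r0 * v0 * w0)
          have : Fact (Nat.Prime 5) := ⟨Nat.prime_five⟩
          have h5 : 5 ∣ orderOf (word r v w i) := by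
            rw [← show orderOf (π (word r v w i)) = 5 from orderOf_eq_prime
              (by rw [hπword, hi]; decide +kernel) (by rw [hπword, hi]; decide +kernel)]
            exact orderOf_map_dvd _ _
          have := hin _ (hKH _ (hwordK i))
          rwa [orderOf_eq_of_odd h (Or.inr rfl) h5] at this
  -- the homomorphism
  let Img : G → Matrix (Fin 3) (Fin 3) K4 → Prop := fun g X =>
    ∃ c m k, k ∈ K ∧ Rel k m ∧ m.det = 1 ∧ g = L c * k ∧ X = mat m c
  have hex : ∀ g, ∃ X, Img g X := by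
    intro g
    obtain ⟨e, he, k, hk, rfl⟩ := hsplit g
    obtain ⟨c, rfl⟩ := hEM he
    obtain ⟨m, hm, hkm⟩ := hKgood k hk
    exact ⟨_, c, m, k, hk, hkm, hm, rfl, rfl⟩
  have huniq : ∀ g X Y, Img g X → Img g Y → X = Y := by
    rintro g _ _ ⟨c, m, k, hk, hkm, -, rfl, rfl⟩ ⟨d, n, l, hl, hln, -, e, rfl⟩
    have e' := congrArg π e
    rw [map_mul, map_mul, hEπ.mp (hLmem c), hEπ.mp (hLmem d), one_mul, one_mul] at e'
    obtain rfl := hKinj k hk l hl e'
    obtain rfl := hLinj (mul_right_cancel e)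
    obtain rfl : m = n := eq_of_mulVec fun x => hLinj ((hkm x).symm.trans (hln x))
    rfl
  choose F hF using hex
  have hFmul : ∀ g g', F (g * g') = F g * F g' := by
    intro g g'
    refine huniq _ _ _ (hF _) ?_
    obtain ⟨c, m, k, hk, hkm, hm, eg, eX⟩ := hF g
    obtain ⟨d, n, l, hl, hln, hn, eg', eX'⟩ := hF g'
    refine ⟨c + m *ᵥ d, m * n, k * l, K.mul_mem hk hl, hmulRel hkm hln,
      by rw [Matrix.det_mul, hm, hn, one_mul], ?_, by rw [eX, eX', mat_mul]⟩
    rw [eg, eg', hLadd, ← hkm d, cj]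
    group
  have hFdet : ∀ g, (F g).det = 1 := by
    intro g
    obtain ⟨c, m, k, -, -, hm, -, eX⟩ := hF g
    rw [eX, det_mat, hm]
  have hFS : ∀ g, (⟨F g, hFdet g⟩ : SpecialLinearGroup (Fin 3) K4) ∈ S := by
    intro g
    obtain ⟨c, m, k, -, -, -, -, eX⟩ := hF g
    refine (hS _).mpr ?_
    simp [eX, mat]
  let Φ : G →* S := MonoidHom.mk' (fun g => ⟨⟨F g, hFdet g⟩, hFS g⟩)
    (fun g g' => Subtype.ext (Subtype.ext (hFmul g g')))
  have hinj : Function.Injective Φ := by
    rw [← MonoidHom.ker_eq_bot_iff, eq_bot_iff]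
    have hkerE : ∀ g ∈ Φ.ker, ∀ x ∈ E, Commute g x := by
      intro g hg' x hx
      obtain ⟨c, m, k, -, hkm, -, eg, eX⟩ := hF g
      obtain ⟨d, rfl⟩ := hEM hx
      have e1 : F g = 1 := congrArg (fun s : S => (s.1 : Matrix (Fin 3) (Fin 3) K4)) hg'
      rw [e1, ← mat_one] at eX
      obtain ⟨rfl, rfl⟩ := mat_injective eX
      rw [eg, hL0, one_mul]
      exact cj_eq_self.mp (by rw [hkm d, Matrix.one_mulVec])
    have hsimp : IsSimpleGroup A5 := alternatingGroup.isSimpleGroup_five
    rcases IsSimpleGroup.eq_bot_or_eq_top_of_normal (Φ.ker.map π)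
      ((inferInstance : Φ.ker.Normal).map π hπ) with e | e
    · intro g hg'
      have hgE : π g = 1 := Subgroup.mem_bot.mp (e ▸ Subgroup.mem_map_of_mem π hg')
      obtain ⟨c, m, k, hk, -, -, eg, eX⟩ := hF g
      have e1 : F g = 1 := congrArg (fun s : S => (s.1 : Matrix (Fin 3) (Fin 3) K4)) hg'
      rw [e1, ← mat_one] at eX
      obtain ⟨-, rfl⟩ := mat_injective eX
      rw [hL0, one_mul] at eg
      exact Subgroup.mem_bot.mpr (eg ▸ hKinj k hk 1 K.one_mem (by rw [← eg, hgE, map_one]))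
    · exfalso
      obtain ⟨g, hg', hgr⟩ : r0 ∈ Φ.ker.map π := e ▸ Subgroup.mem_top r0
      obtain ⟨x, hx, hx1⟩ := exists_mem_ne_one hne
      exact hx1 (hfpf g x (by rw [hgr]; decide +kernel) (by rw [hgr]; decide +kernel) hx
        (hkerE g hg' x hx))
  have hcardE : Nat.card E = 16 := by
    have e : M = E := le_antisymm hME hEM
    rw [← e]
    show Nat.card (Set.range L) = 16
    rw [Nat.card_congr (Equiv.ofInjective L hLinj).symm, Nat.card_eq_fintype_card]
    decide +kernel
  have hcardG : Nat.card G = 960 := by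
    have e2 : Nat.card A5 = 60 := by
      rw [Nat.card_eq_fintype_card, ← Fintype.card_of_bijective
        ⟨word_injective, word_surjective⟩]
      decide +kernel
    rw [← π.ker.card_mul_index, Subgroup.index_ker, hker, hcardE,
      MonoidHom.range_eq_top.mpr hπ, Subgroup.card_top, e2]
  exact ⟨MulEquiv.ofBijective Φ ((Nat.bijective_iff_injective_and_card _).mpr ⟨hinj,
    le_antisymm (Nat.card_le_card_of_injective Φ hinj)
      (hcardG ▸ card_affine_le S fun M hM => (hS M).mp hM)⟩)⟩

end Cfsg.Agent.Lib.SpecFive.Critical
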